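import Cfsg.Agent.HZ.L.Bas

/-!
# HZ/L: transfer along a regular embedding (helper64)
-/

set_option autoImplicit false
set_option linter.unusedSectionVars false

namespace Cfsg.Agent.HZ.L

open Cfsg Cfsg.Agent.DL Cfsg.Agent.DL.PP Cfsg.Agent.DL.Uni Matrix Cfsg.Agent.KZ.Lie Cfsg.Agent.Characters.Core
open Cfsg.Agent.Tits.Roots (isRoot_sr)

namespace RegT

variable {H K : Type} [Group H] [Fintype H] [Group K] [Fintype K] {ι : H →* K}

/-- a common constituent -/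
theorem exists_over {χ : H → ℂ} {φ : K → ℂ} (hφ : IsClassFunction K φ) (h : classInner χ (φ ∘ ι) ≠ 0) :
    ∃ ψ : IrrCharacter K, classInner (ψ : K → ℂ) φ ≠ 0 ∧ classInner ((ψ : K → ℂ) ∘ ι) χ ≠ 0 := by
  have := finite_irr (G := K)
  have := Fintype.ofFinite (IrrCharacter K)
  rw [show φ ∘ ι = ∑ ψ : IrrCharacter K, classInner φ ψ • ((ψ : K → ℂ) ∘ ι) from funext fun g => by
    simpa using congrFun (classFunction_eq_sum hφ) (ι g), classInner_sum_right] at h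
  obtain ⟨ψ, -, h1⟩ := Finset.exists_ne_zero_of_sum_ne_zero h
  rw [classInner_smul_right, classInner_conj_symm] at h1
  exact ⟨ψ, left_ne_zero_of_mul h1, fun e => right_ne_zero_of_mul h1 (by rw [← classInner_conj_symm, e, map_zero])⟩

/-- two characters over the same character differ by a linear character -/
theorem twist (hι : Function.Injective ι) (hc : commutator K ≤ ι.range) {χ : H → ℂ} (hχ : IsIrrCharacter H χ)
    {ψ ψ' : IrrCharacter K} (h : classInner ((ψ : K → ℂ) ∘ ι) χ ≠ 0) (h' : classInner ((ψ' : K → ℂ) ∘ ι) χ ≠ 0) :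
    ∃ l : K →* ℂˣ, (∀ g, l (ι g) = 1) ∧ ∀ g, (ψ' : K → ℂ) g = l g * (ψ : K → ℂ) g := by
  have : ι.range.Normal := Subgroup.Normal.of_commutator_le _ hc
  have h1 : ∀ ψ : IrrCharacter K, classInner ((ψ : K → ℂ) ∘ ι) χ ≠ 0 → KZ.Red.Over ι.range ψ
      ⟨χ ∘ (MonoidHom.ofInjective hι).symm.toMonoidHom, isIrr_comp _ (MonoidHom.ofInjective hι).symm.surjective hχ⟩ :=
    fun ψ k e => k (by
      rw [← e, ← @Characters.Clifford.classInner_comp_mulEquiv _ _ _ _ (Fintype.ofFinite _) _ (MonoidHom.ofInjective hι)]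
      exact congrArg _ (funext fun g => congrArg χ ((MonoidHom.ofInjective hι).symm_apply_apply g).symm))
  obtain ⟨l, h2, h3⟩ := KZ.DGen.twist (fun x y => hc (Subgroup.commutator_mem_commutator trivial trivial)) (h1 ψ h) (h1 ψ' h')
  exact ⟨l, fun g => h2 _ ⟨g, rfl⟩, h3⟩

end RegT

variable {p : ℕ} [Fact p.Prime] {k : Type} [Field k] [CharP k p] [IsAlgClosed k] {Y : Type} [Group Y] {N : Type}
  [Fintype N] [DecidableEq N] {ρ : Y →* GL N k} {F : MulAut Y} {G : Subgroup Y} {D : Datum p ρ F G}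

theorem cz_of (h : CZ D) : Cz p (rts D) := by
  obtain ⟨m, ϖ, h⟩ := h
  have h1 : ∀ a, D.Rt a → D.wt a ∈ Submodule.span ℤ (Prod.fst '' rts D) := fun a ha =>
    Submodule.subset_span ⟨_, rt_mem ha, rfl⟩
  refine ⟨m, fun l => ⟨∑ i, l ⟨_, h1 _ (isRoot_sr D.cs D.h i)⟩ • ϖ i, fun ⟨x, hx⟩ => ?_⟩⟩
  induction hx using Submodule.span_induction with
  | mem x hx =>
    obtain ⟨_, ⟨a, ha, rfl⟩, rfl⟩ := hx
    have h2 : (⟨D.wt a, h1 a ha⟩ : Submodule.span ℤ (Prod.fst '' rts D)) = ∑ i, a i • ⟨_, h1 _ (isRoot_sr D.cs D.h i)⟩ :=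
      Subtype.ext ((congrArg D.wt (D.eq_sum_sr a)).trans (by
        rw [map_sum, Submodule.coe_sum]
        exact Finset.sum_congr rfl fun i _ => map_zsmul _ _ _))
    show D.wt a ⬝ᵥ _ = _ * l ⟨D.wt a, h1 a ha⟩
    rw [h2, map_sum, Finset.mul_sum, dotProduct_sum]
    exact Finset.sum_congr rfl fun i _ => by rw [dotProduct_smul, h, map_smul, smul_eq_mul, smul_eq_mul]; ring
  | zero => exact (zero_dotProduct _).trans (by rw [show (⟨0, _⟩ : Submodule.span ℤ (Prod.fst '' rts D)) = 0 from rfl]; simp)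
  | add x y hx hy a b =>
    exact (add_dotProduct _ _ _).trans ((congrArg₂ _ a b).trans (by rw [← mul_add, ← map_add]; rfl))
  | smul c x hx a =>
    exact (smul_dotProduct _ _ _).trans ((congrArg _ a).trans (by rw [← mul_smul_comm, ← map_smul]; rfl))

variable [Fintype ↥(GF F G)] {f : Fr D} {j : ℕ} {B : Mat D.R} (R : Reg D f j B)

attribute [local instance] Reg.gY Reg.fN Reg.dN Reg.fin

theorem Reg.nr_eq : nr R.D' = nr D := (Nat.card_congr R.e).symm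

theorem Reg.iso : Iso (rts D) (rts R.D') := ⟨R.e, fun a b => by rw [R.e₂, dotProduct_mulVec, R.e₁]⟩

theorem Reg.ex (h : Ex (rts D)) : Ex (rts R.D') := R.iso.symm.ex h

theorem Reg.has {χ : GF F G → ℂ} {w : D.W} {c : Lbl D} (h : Has f χ w c) : ∃ c', pl R.J c' = c ∧
    ∃ ψ : IrrCharacter (GF R.F' R.G'), Has R.f' ψ (R.ω w) c' ∧ classInner ((ψ : GF R.F' R.G' → ℂ) ∘ R.ι) χ ≠ 0 := by
  obtain ⟨c', h1, rfl⟩ := R.lift w c h.fx
  exact ⟨c', rfl, RegT.exists_over (LV.Blk.gen_cls (RW_gen R.f' _ c')) (by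
    rwa [show RW R.f' (R.ω w) c' ∘ R.ι = RW f w (pl R.J c') from funext (R.res w c' h1)])⟩

theorem Reg.rel {v : D.W} {c c' : Lbl R.D'} (h : Rel R.D' (R.ω v) c c') : Rel D v (pl R.J c) (pl R.J c') := fun x => by
  rw [chr_pl, chr_pl, mulVec_mulVec, ← R.hω, ← mulVec_mulVec, h]

theorem Reg.cj (h : One R.D' (exL p)) {χ : GF F G → ℂ} (hχ : IsIrrCharacter _ χ) {w w' : D.W} {c c' : Lbl D}
    (h1 : Has f χ w c) (h2 : Has f χ w' c') : Cj (rts D) c c' := by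
  obtain ⟨d, rfl, ψ, a1, a2⟩ := R.has h1
  obtain ⟨d', rfl, ψ', b1, b2⟩ := R.has h2
  obtain ⟨l, l1, l2⟩ := RegT.twist R.inj R.comm hχ a2 b2
  obtain ⟨cl, -, -, c1, -, c2⟩ := R.lin l l1
  obtain ⟨v, hv⟩ := cj_iff.1 (h R.f' _ ψ'.2 _ _ _ _ ((ip_twist c2 l2 _ d).trans_ne a1) b1)
  obtain ⟨v, rfl⟩ := R.ω.surjective v
  refine cj_iff.2 ⟨v, fun x => (R.rel hv x).trans ?_⟩
  rw [chr_pl, map_mul, ← chr_pl, ← chr_pl, c1, map_one, mul_one]

end Cfsg.Agent.HZ.L
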